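import Groth.Agent.GIT36.FinAction.Scheme
import Groth.Agent.GIT36.FinAction.Glue
import Groth.Agent.GIT36.Proj.OrbitSurj
import Groth.Prelude.Def_W4bk4git07Quot
import Groth.Prelude.Def_Red

/-!
An action with finite stabilisers and an affine invariant map to a separated scheme is proper.
-/

set_option autoImplicit false
set_option backward.isDefEq.respectTransparency.types false
set_option linter.style.haveILetI false
set_option linter.unusedSectionVars false

universe u

open CategoryTheory MonoidalCategory CartesianMonoidalCategory MonObj GrpObj AlgebraicGeometry TopologicalSpace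
open Groth.Agent.GIT36.Mu Groth.Agent.GIT36.Proj Groth.Agent.GIT36.FinAction Groth.Agent.FinSub96

noncomputable section

namespace Groth.Agent.GIT36.PropAct

variable {k : Type u} [Field k] [IsAlgClosed k] [CharZero k] {G X Y : Over (St k)} [GrpObj G]
  [LocallyOfFiniteType X.hom] (a : AlgGrp.Action G X)

theorem isFinite_psi_of_affine_map (hG : Red.IsReductive G) {φ : X ⟶ Y} [IsAffineHom φ.left] [IsSeparated Y.hom]
    (hinv : GIT.IsInvariant a φ)
    (hst : ∀ z : Pt k ⟶ X, {g : Pt k ⟶ G | lift g z ≫ a.act = z}.Finite) :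
    IsFinite (GIT.psi a (𝟙 X)).left := by
  obtain ⟨A, _, _, ψ, hψ, hAft, hLR⟩ := AffQuot.exists_coord_linRed G hG
  haveI := hψ
  haveI := hAft
  haveI := hG.1
  haveI : IsAffine G.left := isAffine_of_isAffineHom G.hom
  haveI := hG.2.1
  haveI : _root_.IsReduced A := GMod80.isReduced ψ
  have hpre : ∀ V : Y.left.Opens, a.act.left ⁻¹ᵁ (φ.left ⁻¹ᵁ V) = (snd G X).left ⁻¹ᵁ (φ.left ⁻¹ᵁ V) := fun V => by
    rw [← Scheme.Hom.comp_preimage, ← Scheme.Hom.comp_preimage, hinv.left]
  have hpsi : ∀ (V : X.left.Opens) (hV : a.act.left ⁻¹ᵁ V = (snd G X).left ⁻¹ᵁ V), IsAffineOpen V →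
      IsFinite (GIT.psi (resAct a V hV) (𝟙 _)).left := by
    intro V hV hVa
    haveI : IsAffine (openObj V).left := hVa
    haveI : LocallyOfFiniteType (openObj V).hom := inferInstanceAs (LocallyOfFiniteType (V.ι ≫ X.hom))
    haveI : Algebra.FiniteType k Γ((openObj V).left, ⊤) := finiteType_affine (openObj V)
    refine isFinite_psi ψ _ hLR fun z => (hst (z ≫ openIncl V)).subset ?_
    intro g hg
    show lift g (z ≫ openIncl V) ≫ a.act = z ≫ openIncl V
    rw [← lift_whiskerLeft g z (openIncl V), Category.assoc, ← resAct_comp a V hV, ← Category.assoc,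
      Set.mem_ofPred_eq.mp hg]
  let J := {V : Y.left.Opens // IsAffineOpen V}
  let W : J → X.left.Opens := fun V => φ.left ⁻¹ᵁ V.1
  have hcov : iSup W = ⊤ := by
    refine eq_top_iff.2 fun x _ => ?_
    obtain ⟨V, hV, hxV, -⟩ := exists_isAffineOpen_mem_and_subset (x := φ.left x) (U := (⊤ : Y.left.Opens)) trivial
    exact Opens.mem_iSup.2 ⟨⟨V, hV⟩, hxV⟩
  refine isFinite_psi_of_cover a W hcov (fun V => hpre V.1) fun V V' => ?_
  haveI : Y.left.IsSeparated := ⟨by rw [← Limits.terminal.comp_from Y.hom]; infer_instance⟩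
  have haff : IsAffineOpen (W V ⊓ W V') := by
    show IsAffineOpen (φ.left ⁻¹ᵁ V.1 ⊓ φ.left ⁻¹ᵁ V'.1)
    rw [← Scheme.Hom.preimage_inf]
    exact (IsAffineOpen.inf V.2 V'.2).preimage φ.left
  haveI := hpsi _ (inv_inf a (hpre V.1) (hpre V'.1)) haff
  haveI : IsOpenImmersion (inclLE (inf_le_left : W V ⊓ W V' ≤ W V)).left :=
    inferInstanceAs (IsOpenImmersion (X.left.homOfLE inf_le_left))
  haveI : IsOpenImmersion (inclLE (inf_le_right : W V ⊓ W V' ≤ W V')).left :=
    inferInstanceAs (IsOpenImmersion (X.left.homOfLE inf_le_right))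
  refine isFinite_pair_of_separated _ _ _ (openIncl (W V) ≫ φ) (openIncl (W V') ≫ φ) ?_ ?_
  · rw [← Category.assoc (inclLE inf_le_left), inclLE_comp, ← Category.assoc (inclLE inf_le_right), inclLE_comp,
      GIT.psi, lift_fst_assoc, lift_snd_assoc, whiskerLeft_id, Category.id_comp,
      reassoc_of% (resAct_comp a _ (inv_inf a (hpre V.1) (hpre V'.1))), hinv, whiskerLeft_snd_assoc]
  · intro x x' he
    have hmem : φ.left x.1 = φ.left x'.1 := he
    refine ⟨⟨⟨x.1, x.2, ?_⟩, ?_⟩, ⟨⟨x'.1, ?_, x'.2⟩, ?_⟩⟩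
    · show φ.left x.1 ∈ V'.1
      rw [hmem]; exact x'.2
    · exact Subtype.ext (X.left.homOfLE_apply inf_le_left _)
    · show φ.left x'.1 ∈ V.1
      rw [← hmem]; exact x.2
    · exact Subtype.ext (X.left.homOfLE_apply inf_le_right _)

end Groth.Agent.GIT36.PropAct
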