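import Groth.Agent.GIT36.FinAction.Open
import Groth.Agent.AGF80.StabDim
import Groth.Agent.FibDim94.Comp
import Groth.Agent.RedPts82.GrpIrred
import Groth.Agent.AffNorm62.OpenTarget
import Groth.Agent.E4O.QuasiSectionEquidim
import Groth.Prelude.Def_W4bk4git07Quot
import Groth.Prelude.Def_Red

/-!
Orbits in the fibres of a geometric quotient: a finite stabiliser at a general point forces all
stabilisers to be finite.
-/

set_option autoImplicit false
set_option backward.isDefEq.respectTransparency.types false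
set_option linter.style.haveILetI false
set_option linter.unusedSectionVars false

universe u

open CategoryTheory MonoidalCategory CartesianMonoidalCategory MonObj GrpObj AlgebraicGeometry TopologicalSpace
open Groth.Agent.E4O (fdeg)
open Groth.Agent.GIT36.Mu Groth.Agent.GIT36.Proj Groth.Agent.GIT36.FinAction Groth.Agent.H98EqInt

noncomputable section

namespace Groth.Agent.GIT36.PropAct

variable {k : Type u} [Field k]

theorem connectedSpace_of_isReductive [IsAlgClosed k] (G : Over (St k)) [GrpObj G] (hG : Red.IsReductive G) :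
    ConnectedSpace G.left := by
  obtain ⟨s⟩ : Nonempty (PrimeSpectrum k) := inferInstance
  obtain ⟨-, -, hc, -⟩ := hG.2.2 s
  let g := Red.geomPt (S := St k) s
  haveI : Surjective g := ⟨fun y => ⟨IsLocalRing.closedPoint _, Subsingleton.elim (α := PrimeSpectrum k) _ _⟩⟩
  haveI : Surjective (Limits.pullback.fst G.hom g) :=
    MorphismProperty.pullback_fst (P := @Surjective) _ _ inferInstance
  haveI : ConnectedSpace ↥(Limits.pullback G.hom g) := hc
  exact (Limits.pullback.fst G.hom g).surjective.connectedSpace (Limits.pullback.fst G.hom g).continuous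

variable {G X : Over (St k)} [GrpObj G] [LocallyOfFiniteType G.hom] [LocallyOfFiniteType X.hom]
  [IrreducibleSpace G.left]

theorem lft_orbitMap (a : AlgGrp.Action G X) (z : Pt k ⟶ X) : LocallyOfFiniteType (a.orbitMap z).left := by
  haveI : LocallyOfFiniteType ((a.orbitMap z).left ≫ X.hom) := by rw [Over.w]; infer_instance
  exact locallyOfFiniteType_of_comp (a.orbitMap z).left X.hom

/-- the dimension of the stabiliser is the fibre degree of the orbit map at the generic point -/
theorem dim_stab_eq_fdeg (a : AlgGrp.Action G X) (z : Pt k ⟶ X) :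
    topologicalKrullDim ↥((stToX a).fiber (z.left (IsLocalRing.closedPoint k))) =
      (fdeg (a.orbitMap z).left (genericPoint G.left) : ℕ) := by
  haveI := lft_orbitMap a z
  let α := (a.orbitMap z).left
  let gG := genericPoint G.left
  rw [AGF80.StabDim.dim_fiber_eq a z, ← AlgGrp79.dim_orbit_fibre a z gG,
    ← E4O.dim_fibreClosure (f := α) gG,
    IsHomeomorph.topologicalKrullDim_eq _ (α.fiberHomeo (α gG)).isHomeomorph]
  refine E4O.dim_set_congr ?_
  rw [(genericPoint_spec G.left).def, Set.univ_inter]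

/-- the fibre of a quotient map with orbit fibres through a rational point is the orbit -/
theorem fibre_eq_range {Y : Over (St k)} (a : AlgGrp.Action G X) {φ : X ⟶ Y} (hinv : GIT.IsInvariant a φ)
    (horb : Function.Surjective (GIT.PsiY a φ hinv).base) (z : Pt k ⟶ X) :
    φ.left ⁻¹' {φ.left (z.left (IsLocalRing.closedPoint k))} = Set.range (a.orbitMap z).left := by
  let c := z.left (IsLocalRing.closedPoint k)
  haveI : Subsingleton (Pt k).left := inferInstanceAs (Subsingleton (PrimeSpectrum k))
  ext p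
  constructor
  · intro hp
    obtain ⟨w, hw1, hw2⟩ := Scheme.Pullback.exists_preimage_pullback (f := φ.left) (g := φ.left) p c hp
    obtain ⟨r, rfl⟩ := horb w
    have h1 : a.act.left r = p := by
      rw [← hw1, ← Scheme.Hom.comp_apply, GIT.PsiY, Limits.pullback.lift_fst]
    have h2 : (snd G X).left r = c := by
      rw [← hw2, ← Scheme.Hom.comp_apply, GIT.PsiY, Limits.pullback.lift_snd]
    obtain ⟨q, hq, -⟩ := Scheme.exists_preimage_of_isPullback (Quot.isPullback_whiskerLeft_left G z) r
      (IsLocalRing.closedPoint k) h2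
    refine ⟨(fst G (Pt k)).left q, ?_⟩
    have e : fst G (Pt k) ≫ a.orbitMap z = (G ◁ z) ≫ a.act := by
      rw [AlgGrp.Action.orbitMap, comp_lift_assoc, Category.comp_id]
      refine congrArg (· ≫ a.act) ?_
      apply CartesianMonoidalCategory.hom_ext
      · simp
      · rw [lift_snd, whiskerLeft_snd, ← Category.assoc,
          toUnit_unique (fst G (Pt k) ≫ toUnit G) (snd G (Pt k))]
    rw [← Scheme.Hom.comp_apply, ← Over.comp_left, e, Over.comp_left, Scheme.Hom.comp_apply, hq, h1]
  · rintro ⟨g, rfl⟩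
    have e : a.orbitMap z ≫ φ = toUnit G ≫ z ≫ φ := by
      rw [AlgGrp.Action.orbitMap, Category.assoc, hinv, lift_snd_assoc, Category.assoc]
    show φ.left ((a.orbitMap z).left g) = φ.left c
    rw [← Scheme.Hom.comp_apply, ← Over.comp_left, e, Over.comp_left, Over.comp_left, Scheme.Hom.comp_apply,
      Scheme.Hom.comp_apply]
    exact congrArg (fun t => φ.left (z.left t)) (Subsingleton.elim _ _)

/-- the generic point of the orbit generizes the fibre -/
theorem orbit_generic_specializes {Y : Over (St k)} (a : AlgGrp.Action G X) {φ : X ⟶ Y} (hinv : GIT.IsInvariant a φ)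
    (horb : Function.Surjective (GIT.PsiY a φ hinv).base) (z : Pt k ⟶ X) (p : X.left)
    (hp : φ.left p = φ.left (z.left (IsLocalRing.closedPoint k))) :
    (a.orbitMap z).left (genericPoint G.left) ⤳ p := by
  obtain ⟨g, rfl⟩ := (fibre_eq_range a hinv horb z).le hp
  exact (genericPoint_specializes g).map (a.orbitMap z).left.continuous

/-- orbit dimension plus stabiliser dimension -/
theorem dim_add {Y : Over (St k)} [LocallyOfFiniteType Y.hom] (a : AlgGrp.Action G X) {φ : X ⟶ Y}
    (hinv : GIT.IsInvariant a φ)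
    (horb : Function.Surjective (GIT.PsiY a φ hinv).base) (z : Pt k ⟶ X) :
    fdeg G.hom (genericPoint G.left) = fdeg (a.orbitMap z).left (genericPoint G.left) +
      fdeg φ.left ((a.orbitMap z).left (genericPoint G.left)) := by
  haveI := lft_orbitMap a z
  haveI : LocallyOfFiniteType φ.left := by
    haveI : LocallyOfFiniteType (φ.left ≫ Y.hom) := by rw [Over.w]; infer_instance
    exact locallyOfFiniteType_of_comp φ.left Y.hom
  have h1 := FibDim94.fdeg_comp (a.orbitMap z).left X.hom (genericPoint G.left)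
  rw [Over.w] at h1
  have h2 := FibDim94.fdeg_comp φ.left Y.hom ((a.orbitMap z).left (genericPoint G.left))
  rw [Over.w] at h2
  have hξ : φ.left ((a.orbitMap z).left (genericPoint G.left)) = φ.left (z.left (IsLocalRing.closedPoint k)) :=
    (fibre_eq_range a hinv horb z).ge ⟨_, rfl⟩
  have h0 : fdeg Y.hom (φ.left ((a.orbitMap z).left (genericPoint G.left))) = 0 := by
    let w : Spec (CommRingCat.of k) ⟶ Y.left := (z ≫ φ).left
    have hw : w ≫ Y.hom = 𝟙 _ := Over.w (z ≫ φ)
    haveI : LocallyOfFiniteType w := by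
      haveI : LocallyOfFiniteType (w ≫ Y.hom) := by rw [hw]; infer_instance
      exact locallyOfFiniteType_of_comp w Y.hom
    have h3 := FibDim94.fdeg_comp w Y.hom (IsLocalRing.closedPoint k)
    have h4 : fdeg (w ≫ Y.hom) (IsLocalRing.closedPoint k) = 0 := by
      rw [hw]
      exact E4O.fdeg_eq_zero_of_closed_in_fibre (𝟙 (St k)) fun x' _ _ =>
        Subsingleton.elim (α := PrimeSpectrum k) _ _
    rw [hξ]
    have : φ.left (z.left (IsLocalRing.closedPoint k)) = w (IsLocalRing.closedPoint k) := rfl
    rw [this]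
    omega
  omega

/-- a finite stabiliser at a general point makes all stabilisers finite -/
theorem finite_pts [IsAlgClosed k] [QuasiCompact G.hom] [IsSeparated X.hom] {Y : Over (St k)}
    [LocallyOfFiniteType Y.hom] (a : AlgGrp.Action G X) {φ : X ⟶ Y}
    (hinv : GIT.IsInvariant a φ) (horb : Function.Surjective (GIT.PsiY a φ hinv).base)
    (gn : X.left) (hgn : ∀ p, gn ⤳ p) (O : X.left.Opens) (hgnO : gn ∈ O)
    (hd : ∀ z : Pt k ⟶ X, z.left (IsLocalRing.closedPoint k) ∈ O →
      fdeg (a.orbitMap z).left (genericPoint G.left) = 0)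
    (z : Pt k ⟶ X) : {g : Pt k ⟶ G | lift g z ≫ a.act = z}.Finite := by
  haveI : LocallyOfFiniteType φ.left := by
    haveI : LocallyOfFiniteType (φ.left ≫ Y.hom) := by rw [Over.w]; infer_instance
    exact locallyOfFiniteType_of_comp φ.left Y.hom
  have hgnmax : FlatMor.fibreDimAt φ.left gn = (fdeg φ.left gn : ℕ) :=
    E4O.fibreDimAt_eq_fdeg fun w hw _ => (hw.antisymm (hgn w)).eq
  obtain ⟨U, hgnU, hU⟩ := E4O.exists_open_forall_fibreDimAt_le φ.left gn
  haveI : JacobsonSpace X.left := LocallyOfFiniteType.jacobsonSpace X.hom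
  obtain ⟨c, ⟨hcU, hcO⟩, hc⟩ := nonempty_inter_closedPoints (X := X.left) (Z := (U : Set X.left) ∩ O)
    ⟨gn, hgnU, hgnO⟩ (U.isOpen.inter O.isOpen).isLocallyClosed
  obtain ⟨z₀, hz₀⟩ : ∃ z₀ : Pt k ⟶ X, z₀.left (IsLocalRing.closedPoint k) = c :=
    ⟨Over.homMk (pointOfClosedPoint X.hom c hc) (pointOfClosedPoint_comp X.hom c hc),
      congrArg Subtype.val ((pointEquivClosedPoint X.hom).apply_symm_apply ⟨c, hc⟩)⟩
  have hξ₀ : (a.orbitMap z₀).left (genericPoint G.left) ⤳ z₀.left (IsLocalRing.closedPoint k) := orbit_generic_specializes a hinv horb z₀ _ rfl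
  have hge : fdeg G.hom (genericPoint G.left) ≤ fdeg φ.left gn := by
    have h1 := dim_add a hinv horb z₀
    rw [hd z₀ (hz₀ ▸ hcO), zero_add] at h1
    have h2 : ((fdeg φ.left ((a.orbitMap z₀).left (genericPoint G.left)) : ℕ) : WithBot ℕ∞) ≤ (fdeg φ.left gn : ℕ) :=
      ((E4O.fdeg_le_fibreDimAt specializes_rfl rfl).trans
        (hU ((a.orbitMap z₀).left (genericPoint G.left)) (hξ₀.mem_open U.isOpen (hz₀ ▸ hcU)))).trans hgnmax.le
    have h3 : fdeg φ.left ((a.orbitMap z₀).left (genericPoint G.left)) ≤ fdeg φ.left gn := by exact_mod_cast h2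
    omega
  have hξ : FlatMor.fibreDimAt φ.left ((a.orbitMap z).left (genericPoint G.left)) = (fdeg φ.left ((a.orbitMap z).left (genericPoint G.left)) : ℕ) :=
    E4O.fibreDimAt_eq_fdeg fun w hw he => (hw.antisymm (orbit_generic_specializes a hinv horb z w
      (he.trans ((fibre_eq_range a hinv horb z).ge ⟨_, rfl⟩)))).eq
  have hle : fdeg φ.left gn ≤ fdeg φ.left ((a.orbitMap z).left (genericPoint G.left)) := by
    have := (E4O.fdeg_le_fibreDimAt_of_specializes (f := φ.left) (hgn ((a.orbitMap z).left (genericPoint G.left)))).trans hξ.le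
    exact_mod_cast this
  have hz := dim_add a hinv horb z
  have h0 : fdeg (a.orbitMap z).left (genericPoint G.left) = 0 := by omega
  refine finite_pts_of_fibre a z ((finite_fibre_iff_dim a _).2 ?_)
  rw [dim_stab_eq_fdeg, h0]
  exact not_le.2 (by exact_mod_cast zero_lt_one)

/-- the hypothesis of `finite_pts` from the ambient action -/
theorem exists_open_fdeg_zero {X' : Over (St k)} [LocallyOfFiniteType X'.hom] (a : AlgGrp.Action G X)
    (a' : AlgGrp.Action G X') (j : X' ⟶ X) [IsOpenImmersion j.left] (hj : a'.act ≫ j = (G ◁ j) ≫ a.act)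
    (xg : X.left)
    (hσ : topologicalKrullDim (GLinSh.stab a (Over.homMk (X.left.fromSpecResidueField xg) rfl :
        Over.mk (X.left.fromSpecResidueField xg ≫ X.hom) ⟶ X)) = 0)
    (gn : X'.left) (hgn : j.left gn = xg) :
    ∃ O : X'.left.Opens, gn ∈ O ∧ ∀ z : Pt k ⟶ X', z.left (IsLocalRing.closedPoint k) ∈ O →
      fdeg (a'.orbitMap z).left (genericPoint G.left) = 0 := by
  let W : X.left.Opens := ⟨{x | (1 : WithBot ℕ∞) ≤ topologicalKrullDim ↥((stToX a).fiber x)}ᶜ,
    (AGF80.StabDim.isClosed_setOf_le_dim_fiber a 1).isOpen_compl⟩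
  refine ⟨j.left ⁻¹ᵁ W, ?_, fun z hz => ?_⟩
  · show ¬ ((1 : WithBot ℕ∞) ≤ topologicalKrullDim ↥((stToX a).fiber (j.left gn)))
    rw [hgn]
    intro h
    have h' := h.trans (le_of_eq (Eq.trans ?_ hσ))
    · exact absurd h' (not_le.2 zero_lt_one)
    · rw [IsHomeomorph.topologicalKrullDim_eq _ (Stab.stabIso a _).hom.homeomorph.isHomeomorph]
      rfl
  · have hz' : ¬ ((1 : WithBot ℕ∞) ≤
        topologicalKrullDim ↥((stToX a).fiber ((z ≫ j).left (IsLocalRing.closedPoint k)))) := hz
    rw [dim_stab_eq_fdeg] at hz'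
    have he : (a.orbitMap (z ≫ j)).left = (a'.orbitMap z).left ≫ j.left := by
      rw [← Over.comp_left]
      refine congrArg CommaMorphism.left ?_
      rw [AlgGrp.Action.orbitMap, AlgGrp.Action.orbitMap, Category.assoc, hj, lift_whiskerLeft_assoc,
        Category.assoc]
    haveI := lft_orbitMap a' z
    rw [he, AffNorm62.fdeg_comp_right_openImmersion] at hz'
    by_contra hne
    exact hz' (by exact_mod_cast Nat.one_le_iff_ne_zero.2 hne)

end Groth.Agent.GIT36.PropAct
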